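import Mathlib
import Cfsg.Agent.H288.E6.Gen
import Cfsg.Agent.H905.E6T.Fam

/-!
# S5927, characteristic 2, `A_n`, `n = 9, 10, 11, 12` (helper288, after helper905's paper proof)
-/

set_option autoImplicit false
set_option linter.unusedSectionVars false

namespace Cfsg.Agent.H288.E6

open Cfsg Cfsg.Lie Module Equiv
open Cfsg.Agent.ChevalleyStructure.E6Min.Tables
open Cfsg.Agent.H952.F4 (ev es sh cr tf)
open Cfsg.Agent.H952.F4.Jord Cfsg.Agent.H905.E6T

universe u

variable {F : Type u} [Field F]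

/-- characteristic 2: fixed space of the square -/
theorem half (h2 : (2 : F) = 0) {M : Type*} [AddCommGroup M] [Module F M] [FiniteDimensional F M] (T : Module.End F M) :
    ev (T * T) 1 ≤ 2 * ev T 1 := by
  unfold Cfsg.Agent.H952.F4.ev
  have add0 : ∀ v : M, v + v = 0 := fun v => add_self2 h2 v
  let N : ↥(Module.End.eigenspace (T * T) (1 : F)) →ₗ[F] ↥(Module.End.eigenspace T (1 : F)) :=
    { toFun := fun v => ⟨T v.1 - v.1, by
        rw [Module.End.mem_eigenspace_iff, one_smul, map_sub]
        have h2 := v.2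
        rw [Module.End.mem_eigenspace_iff, one_smul, Module.End.mul_apply] at h2
        rw [h2, sub_eq_sub_iff_add_eq_add, add0, add0]⟩
      map_add' := fun v w => by
        apply Subtype.ext
        change T (v.1 + w.1) - (v.1 + w.1) = T v.1 - v.1 + (T w.1 - w.1)
        rw [map_add]
        abel
      map_smul' := fun a v => by
        apply Subtype.ext
        change T (a • v.1) - a • v.1 = a • (T v.1 - v.1)
        rw [map_smul, smul_sub] }
  have h2 := LinearMap.finrank_range_add_finrank_ker N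
  have h3 : finrank F (LinearMap.range N) ≤ finrank F (Module.End.eigenspace T (1 : F)) :=
    Submodule.finrank_le _
  have h4 : finrank F (LinearMap.ker N) ≤ finrank F (Module.End.eigenspace T (1 : F)) := by
    have h5 : (LinearMap.ker N).map (Module.End.eigenspace (T * T) (1 : F)).subtype ≤
        Module.End.eigenspace T (1 : F) := by
      rintro _ ⟨v, hv, rfl⟩
      rw [Module.End.mem_eigenspace_iff, one_smul]
      have h5 := congrArg Subtype.val (LinearMap.mem_ker.1 hv)
      exact sub_eq_zero.1 h5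
    have h6 := Submodule.finrank_mono h5
    rw [Submodule.finrank_map_subtype_eq] at h6
    exact h6
  omega

/-- what is needed about the elements of order 2, 4, 3, 5 -/
structure Inp {G : Type*} [Group G] (σ : Representation F G (I27 → F)) : Prop where
  two : ∀ a : G, a * a = 1 → 15 ≤ ev (σ a) 1
  four : ∀ a : G, a ^ 4 = 1 → 8 ≤ ev (σ a) 1
  three : ∀ a : G, a ≠ 1 → a ^ 3 = 1 → (∃ b, b * a * b⁻¹ = a⁻¹) → 9 ≤ ev (σ a) 1
  five : ∀ a : G, a ≠ 1 → a ^ 5 = 1 → (∃ b, b * a * b⁻¹ = a ^ 2) → ev (σ a) 1 = 7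

theorem Inp.comp {G G' : Type*} [Group G] [Group G'] {σ : Representation F G (I27 → F)} (h : Inp σ) (f : G' →* G)
    (hf : Function.Injective f) : Inp (MonoidHom.comp σ f) where
  two := fun a ha => h.two (f a) (by rw [← map_mul, ha, map_one])
  four := fun a ha => h.four (f a) (by rw [← map_pow, ha, map_one])
  three := fun a h1 h3 ⟨b, hb⟩ => h.three (f a) (fun h' => h1 (hf (by rw [h', map_one])))
    (by rw [← map_pow, h3, map_one]) ⟨f b, by rw [← map_inv, ← map_mul, ← map_mul, hb, map_inv]⟩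
  five := fun a h1 h3 ⟨b, hb⟩ => h.five (f a) (fun h' => h1 (hf (by rw [h', map_one])))
    (by rw [← map_pow, h3, map_one]) ⟨f b, by rw [← map_inv, ← map_mul, ← map_mul, hb, map_pow]⟩

theorem nine {σ σ' : Representation F ↥(alternatingGroup (Fin 9)) (I27 → F)} (h2 : (2 : F) = 0) (hP : PD σ σ')
    (hI : Inp σ) : 1 ≤ finrank F σ.invariants + finrank F σ'.invariants := by
  obtain ⟨x, y, b, hgen, hx, hy, hz1, hz3, hb⟩ := gen9
  have h1 := hP.scott hgen
  have h3 := hI.two x hx
  have h4 := hI.four y hy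
  have h5 := hI.three _ hz1 hz3 ⟨b, hb⟩
  have h6 := half h2 (σ (x * y))
  rw [← map_mul, ← pow_two] at h6
  omega

theorem ten {σ σ' : Representation F ↥(alternatingGroup (Fin 10)) (I27 → F)} (h2 : (2 : F) = 0) (hP : PD σ σ')
    (hI : Inp σ) : 1 ≤ finrank F σ.invariants + finrank F σ'.invariants := by
  obtain ⟨x, y, b, hgen, hx, hy1, hy3, hb, hz⟩ := gen10
  have h1 := hP.scott hgen
  have h3 := hI.two x hx
  have h4 := hI.three y hy1 hy3 ⟨b, hb⟩
  have h5 := hI.four ((x * y) ^ 2) (by rw [← pow_mul]; exact hz)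
  have h6 := half h2 (σ (x * y))
  rw [← map_mul, ← pow_two] at h6
  omega

theorem eleven {σ σ' : Representation F ↥(alternatingGroup (Fin 11)) (I27 → F)} (hP : PD σ σ')
    (hI : Inp σ) : 2 ≤ finrank F σ.invariants + finrank F σ'.invariants := by
  obtain ⟨x, y, b, c, hgen, hx, hy1, hy5, hb, hz1, hz5, hc⟩ := gen11
  have h1 := hP.scott hgen
  have h3 := hI.two x hx
  have h4 := hI.five y hy1 hy5 ⟨b, hb⟩
  have h5 := hI.five _ hz1 hz5 ⟨c, hc⟩
  omega

/-! ### `A₁₂` -/

section Twelve

variable {σ σ' : Representation F ↥(alternatingGroup (Fin 12)) (I27 → F)}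

/-- a 5-cycle -/
def z5 : ↥(alternatingGroup (Fin 12)) := ⟨c[7, 8, 9, 10, 11], Perm.mem_alternatingGroup.2 (by decide +kernel)⟩

theorem z5_facts : z5 ≠ 1 ∧ z5 ^ 5 = 1 ∧ (∀ i : Fin 7, (z5 : Perm (Fin 12)) (Fin.castLE (by norm_num) i) =
    Fin.castLE (by norm_num) i) := by
  unfold z5
  decide +kernel

theorem z5_real : ∃ b : ↥(alternatingGroup (Fin 12)), b * z5 * b⁻¹ = z5 ^ 2 := by
  refine ⟨⟨c[8, 9, 11, 10] * c[0, 1], Perm.mem_alternatingGroup.2 (by decide +kernel)⟩, ?_⟩
  unfold z5
  decide +kernel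

theorem indep (h2 : (2 : F) = 0) (hinv : σ.invariants = ⊥) {κ : Type} [Fintype κ] {v : κ → Fin 12 → I27 → F}
    (hv : ∀ k, Fam σ (v k)) (hl : LinearIndependent F (fun k => v k 11)) :
    LinearIndependent F (fun p : κ × Fin 7 => v p.1 (Fin.castLE (by norm_num) p.2)) := by
  rw [Fintype.linearIndependent_iff]
  intro c hc
  let c' : κ → Fin 12 → F := fun k i => if h : i.val < 7 then c (k, ⟨i.val, h⟩) else 0
  have hc' : ∑ k, ∑ i, c' k i • v k i = 0 := by
    rw [← hc, Fintype.sum_prod_type]
    refine Finset.sum_congr rfl fun k _ => ?_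
    have h1 := Fin.sum_univ_add (a := 7) (b := 5) (fun i : Fin 12 => c' k i • v k i)
    refine Eq.trans h1 ?_
    have h3 : ∑ i : Fin 5, c' k (Fin.natAdd 7 i) • v k (Fin.natAdd 7 i) = 0 := by
      apply Finset.sum_eq_zero
      intro i _
      have h4 : ¬ ((Fin.natAdd 7 i : Fin 12).val < 7) := by
        rw [Fin.val_natAdd]
        omega
      simp only [c', dif_neg h4, zero_smul]
    refine (congrArg (fun x => _ + x) h3).trans ?_
    rw [add_zero]
    refine Finset.sum_congr rfl fun i _ => ?_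
    have h4 : (Fin.castAdd 5 i : Fin 12).val < 7 := i.2
    simp only [c', dif_pos h4]
    rfl
  rintro ⟨k, j⟩
  have hj : (Fin.castLE (by norm_num) j : Fin 12) ≠ 11 := by
    intro h
    have h1 := congrArg Fin.val h
    have h3 := j.2
    have h4 : (Fin.castLE (by norm_num) j : Fin 12).val = j.val := rfl
    rw [h4] at h1
    have h5 : ((11 : Fin 12) : ℕ) = 11 := rfl
    omega
  have h1 := fam_rel h2 (by norm_num) hinv hv hc' hj 11
  rw [Fintype.linearIndependent_iff] at hl
  have h3 := hl (fun k => c' k (Fin.castLE (by norm_num) j) + c' k 11) h1 k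
  have h4 : c' k 11 = 0 := dif_neg (by norm_num)
  have h5 : c' k (Fin.castLE (by norm_num) j) = c (k, j) := dif_pos (show (Fin.castLE (by norm_num) j : Fin 12).val < 7
    from j.2)
  simp only [h4, h5, add_zero] at h3
  exact h3

theorem mem_es {v : Fin 12 → I27 → F} (hv : Fam σ v) (j : Fin 7) :
    v (Fin.castLE (by norm_num) j) ∈ Module.End.eigenspace (σ z5) (1 : F) := by
  rw [Module.End.mem_eigenspace_iff, one_smul, hv, z5_facts.2.2 j]

theorem card_le (h2 : (2 : F) = 0) (hinv : σ.invariants = ⊥) (hI : Inp σ) {κ : Type} [Fintype κ]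
    {v : κ → Fin 12 → I27 → F} (hv : ∀ k, Fam σ (v k)) (hl : LinearIndependent F (fun k => v k 11)) :
    Fintype.card κ ≤ 1 := by
  have h1 := indep h2 hinv hv hl
  have h3 : LinearIndependent F (fun p : κ × Fin 7 => (⟨v p.1 (Fin.castLE (by norm_num) p.2), mem_es (hv p.1) p.2⟩ :
      ↥(Module.End.eigenspace (σ z5) (1 : F)))) :=
    LinearIndependent.of_comp (Submodule.subtype _) h1
  have h4 := h3.fintype_card_le_finrank
  have h5 : finrank F ↥(Module.End.eigenspace (σ z5) (1 : F)) = 7 := hI.five z5 z5_facts.1 z5_facts.2.1 z5_real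
  rw [h5, Fintype.card_prod, Fintype.card_fin] at h4
  omega

theorem span_eq (h2 : (2 : F) = 0) (hinv : σ.invariants = ⊥) (hI : Inp σ) {v : Fin 12 → I27 → F} (hv : Fam σ v)
    (h0 : v 11 ≠ 0) : Submodule.span F (Set.range fun j : Fin 7 => v (Fin.castLE (by norm_num) j)) =
      Module.End.eigenspace (σ z5) (1 : F) := by
  have h1 := indep (κ := Unit) (v := fun _ => v) h2 hinv (fun _ => hv) (LinearIndependent.of_subsingleton () h0)
  have h3 : LinearIndependent F (fun j : Fin 7 => v (Fin.castLE (by norm_num) j)) :=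
    h1.comp (fun j : Fin 7 => ((), j)) (fun a b h => (Prod.mk.inj h).2)
  apply Submodule.eq_of_le_of_finrank_eq
  · rw [Submodule.span_le]
    rintro _ ⟨j, rfl⟩
    exact mem_es hv j
  · rw [finrank_span_eq_card h3, Fintype.card_fin]
    exact (hI.five z5 z5_facts.1 z5_facts.2.1 z5_real).symm

/-- vectors fixed by the stabilizer of the last point -/
theorem fix_last {u : I27 → F}
    (hu : u ∈ Representation.invariants (MonoidHom.comp σ (io (show 11 ≤ 12 by norm_num))))
    (g : ↥(alternatingGroup (Fin 12))) (hg : (g : Perm (Fin 12)) 11 = 11) : σ g u = u := by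
  obtain ⟨g', rfl⟩ := exists_io (show 11 ≤ 12 by norm_num) g (by
    intro i hi
    have : i = 11 := Fin.ext (by have := i.2; have h5 : ((11 : Fin 12) : ℕ) = 11 := rfl; omega)
    rw [this, hg])
  exact (Representation.mem_invariants _ u).1 hu g'

theorem finrank_le (h2 : (2 : F) = 0) (hinv : σ.invariants = ⊥) (hI : Inp σ) :
    finrank F (Representation.invariants (MonoidHom.comp σ (io (show 11 ≤ 12 by norm_num)))) ≤ 1 := by
  set U := Representation.invariants (MonoidHom.comp σ (io (show 11 ≤ 12 by norm_num))) with hU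
  let b := Module.finBasis F U
  have h1 : ∀ k, ∃ v, Fam σ v ∧ v 11 = (b k : I27 → F) := fun k =>
    exists_fam (by norm_num) 11 _ (fix_last (b k).2)
  choose v hv hvb using h1
  have h3 := card_le h2 hinv hI hv (by
    have h4 : (fun k => v k 11) = fun k => ((b k : U) : I27 → F) := funext hvb
    rw [h4]
    exact b.linearIndependent.map' U.subtype (Submodule.ker_subtype U))
  rw [Fintype.card_fin] at h3
  exact h3

theorem twelve (h2 : (2 : F) = 0) (hP : PD σ σ') (hI : Inp σ) (hI' : Inp σ') (hinv : σ.invariants = ⊥)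
    (hinv' : σ'.invariants = ⊥) : False := by
  have hio : Function.Injective (io (show 11 ≤ 12 by norm_num)) := Cfsg.Agent.H191.AltElts.embAlt_injective _
  have h1 := eleven (hP.comp (io (show 11 ≤ 12 by norm_num))) (hI.comp _ hio)
  have h3 := finrank_le h2 hinv hI
  have h4 := finrank_le h2 hinv' hI'
  have h5 : 0 < finrank F (Representation.invariants (MonoidHom.comp σ (io (show 11 ≤ 12 by norm_num)))) := by omega
  have h6 : 0 < finrank F (Representation.invariants (MonoidHom.comp σ' (io (show 11 ≤ 12 by norm_num)))) := by omega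
  obtain ⟨⟨x, hx⟩, hx0⟩ := (Module.finrank_pos_iff_exists_ne_zero).1 h5
  obtain ⟨⟨x', hx'⟩, hx0'⟩ := (Module.finrank_pos_iff_exists_ne_zero).1 h6
  have hx0 : x ≠ 0 := fun h => hx0 (Subtype.ext h)
  have hx0' : x' ≠ 0 := fun h => hx0' (Subtype.ext h)
  obtain ⟨u, hu, hux⟩ := exists_fam (σ := σ) (by norm_num) (11 : Fin 12) x (fix_last hx)
  obtain ⟨u', hu', hux'⟩ := exists_fam (σ := σ') (by norm_num) (11 : Fin 12) x' (fix_last hx')
  -- the pairing
  have hg : ∀ (g : ↥(alternatingGroup (Fin 12))) i j,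
      tf (u ((g : Perm (Fin 12)) i)) (u' ((g : Perm (Fin 12)) j)) = tf (u i) (u' j) := by
    intro g i j
    rw [← hu, ← hu', hP.htf]
  set α := tf (u 0) (u' 0) with hα
  set β := tf (u 0) (u' 1) with hβ
  have ha : ∀ i, tf (u i) (u' i) = α := by
    intro i
    obtain ⟨g, h⟩ := move1 (n := 12) (by norm_num) 0 i
    rw [← h, hg]
  have hb : ∀ i j, i ≠ j → tf (u i) (u' j) = β := by
    intro i j hij
    obtain ⟨g, h, h'⟩ := move2 (n := 12) (by norm_num) (a := 0) (b := 1) (by decide) hij
    rw [← h, ← h', hg]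
  have hsum : ∀ j, ∑ i, tf (u i) (u' j) = 0 := by
    intro j
    have h7 : ∑ i, tf (u i) (u' j) = tf (∑ i, u i) (u' j) := by
      have := map_sum ((tfB F).flip (u' j)) u Finset.univ
      exact this.symm
    rw [h7, fam_sum hinv hu, tf_zero_left]
  have hab : α + β = 0 := by
    have h7 := hsum 0
    rw [Fin.sum_univ_succ] at h7
    have h8 : ∑ i : Fin 11, tf (u i.succ) (u' 0) = β := by
      rw [Finset.sum_congr rfl (g := fun _ => β) (fun i _ => hb _ _ (Fin.succ_ne_zero i)), Finset.sum_const,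
        Finset.card_univ, Fintype.card_fin, nsmul_eq_mul]
      have : ((11 : ℕ) : F) = 1 := by
        push_cast
        linear_combination (5 : F) * h2
      rw [this, one_mul]
    rw [h8] at h7
    exact h7
  have hort : ∀ j, tf (u 0 + u 1) (u' j) = 0 := by
    intro j
    rw [tf_add_left]
    by_cases h0 : j = 0
    · rw [h0, ha, hb 1 0 (by decide), hab]
    by_cases h1' : j = 1
    · rw [h1', ha, hb 0 1 (by decide), add_comm, hab]
    rw [hb 0 j (fun h => h0 h.symm), hb 1 j (fun h => h1' h.symm)]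
    have : β + β = 2 * β := by ring
    rw [this, h2, zero_mul]
  have hort' : ∀ w ∈ Module.End.eigenspace (σ' z5) (1 : F), tf (u 0 + u 1) w = 0 := by
    intro w hw
    rw [← span_eq h2 hinv' hI' hu' (by rw [hux']; exact hx0')] at hw
    have h7 : Submodule.span F (Set.range fun j : Fin 7 => u' (Fin.castLE (by norm_num) j)) ≤
        LinearMap.ker (tfB F (u 0 + u 1)) := by
      rw [Submodule.span_le]
      rintro _ ⟨j, rfl⟩
      exact hort _
    exact h7 hw
  have hz0 : σ z5 (u 0 + u 1) = u 0 + u 1 := by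
    rw [map_add, hu, hu]
    have h7 := z5_facts.2.2 0
    have h8 := z5_facts.2.2 1
    exact congrArg₂ (fun a b => u a + u b) h7 h8
  have hzk : ∀ k : ℕ, σ (z5 ^ k) (u 0 + u 1) = u 0 + u 1 := by
    intro k
    induction k with
    | zero => rw [pow_zero, one_app]
    | succ k ih => rw [pow_succ, mul_app, hz0, ih]
  have hall : ∀ w, tf (u 0 + u 1) w = 0 := by
    intro w
    have h7 : (∑ k ∈ Finset.range 5, σ' (z5 ^ k) w) ∈ Module.End.eigenspace (σ' z5) (1 : F) := by
      rw [Module.End.mem_eigenspace_iff, one_smul]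
      simp only [Finset.sum_range_succ, Finset.sum_range_zero, zero_add, map_add, ← mul_app, ← pow_succ']
      rw [z5_facts.2.1, pow_zero]
      abel
    have h8 := hort' _ h7
    have h9 : ∀ k : ℕ, tf (u 0 + u 1) (σ' (z5 ^ k) w) = tf (u 0 + u 1) w := by
      intro k
      conv_lhs => rw [← hzk k]
      rw [hP.htf]
    simp only [Finset.sum_range_succ, Finset.sum_range_zero, zero_add, tf_add_right, h9] at h8
    linear_combination h8 - 2 * tf (u 0 + u 1) w * h2
  have h01 : u 0 = u 1 := eq_of_add2 h2 (tf_nondeg hall)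
  have h7 := fam_const (by norm_num) hinv hu (a := 0) (b := 1) (by decide) h01 11
  exact hx0 (by rw [← hux, h7])

end Twelve

end Cfsg.Agent.H288.E6
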