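import Mathlib
import Cfsg.Agent.H905.E6T.SevenKill

/-!
# S5927, characteristic 2, `A₈`, case (I): `A₇` has fixed vectors (helper288, after helper905's paper proof)
-/

set_option autoImplicit false
set_option linter.unusedSectionVars false
set_option linter.unusedSimpArgs false
set_option linter.unusedVariables false

namespace Cfsg.Agent.H288.E6

open Cfsg Cfsg.Lie Module Equiv
open Cfsg.Agent.ChevalleyStructure.E6Min.Tables
open Cfsg.Agent.H952.F4 (ev es sh cr tf)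
open Cfsg.Agent.H952.F4.Jord Cfsg.Agent.H905.E6T Cfsg.Agent.H163.E6

universe u

variable {F : Type u} [Field F]

section eight

variable {σ σ' : Representation F ↥(alternatingGroup (Fin 8)) (I27 → F)}

theorem z2 (h2 : (2 : F) = 0) (y : F) : y + y = 0 := by rw [← two_mul, h2, zero_mul]

theorem three_one (h2 : (2 : F) = 0) (y : F) : 3 * y = y := by linear_combination y * h2

/-- no linear relations except the sum -/
theorem indep8 (h2 : (2 : F) = 0) (hinv : σ.invariants = ⊥) {u : Fin 8 → I27 → F} (hu : Fam σ u) (h0 : u 0 ≠ 0)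
    {c : Fin 8 → F} (hc : ∑ i, c i • u i = 0) (a b : Fin 8) : c a = c b := by
  by_cases hab : a = b
  · rw [hab]
  have h1 : ∑ _k : Unit, ∑ i, c i • u i = 0 := by rw [Fintype.sum_unique]; exact hc
  have h3 := fam_rel (v := fun _ : Unit => u) h2 (by norm_num) hinv (fun _ => hu) h1 hab 0
  rw [Fintype.sum_unique] at h3
  have h4 := (smul_eq_zero.1 h3).resolve_right h0
  have h5 := z2 h2 (c b)
  linear_combination h4 - h5

theorem indep7 (h2 : (2 : F) = 0) (hinv : σ.invariants = ⊥) {u : Fin 8 → I27 → F} (hu : Fam σ u) (h0 : u 0 ≠ 0) :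
    LinearIndependent F (fun i : Fin 7 => u i.succ) := by
  rw [Fintype.linearIndependent_iff]
  intro c hc i
  have h1 : ∑ i, (Fin.cons 0 c : Fin 8 → F) i • u i = 0 := by
    rw [Fin.sum_univ_succ, Fin.cons_zero, zero_smul, zero_add]
    simpa using hc
  have h3 := indep8 h2 hinv hu h0 h1 0 i.succ
  rw [Fin.cons_zero, Fin.cons_succ] at h3
  exact h3.symm

theorem finrank_fam8 (h2 : (2 : F) = 0) (hinv : σ.invariants = ⊥) {u : Fin 8 → I27 → F} (hu : Fam σ u)
    (h0 : u 0 ≠ 0) : finrank F (Submodule.span F (Set.range u)) = 7 := by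
  have h3 := finrank_span_eq_card (indep7 h2 hinv hu h0)
  rw [Fintype.card_fin] at h3
  have h4 : Submodule.span F (Set.range u) = Submodule.span F (Set.range fun i : Fin 7 => u i.succ) := by
    apply le_antisymm
    · rw [Submodule.span_le]
      rintro _ ⟨i, rfl⟩
      refine Fin.cases ?_ (fun i => ?_) i
      · have h5 := fam_sum hinv hu
        rw [Fin.sum_univ_succ, add_eq_zero_iff_eq_neg] at h5
        change u 0 ∈ _
        rw [h5]
        exact Submodule.neg_mem _ (Submodule.sum_mem _ fun i _ => Submodule.subset_span ⟨i, rfl⟩)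
      · exact Submodule.subset_span ⟨i, rfl⟩
    · rw [Submodule.span_le]
      rintro _ ⟨i, rfl⟩
      exact Submodule.subset_span ⟨i.succ, rfl⟩
  rw [h4, h3]

/-- coefficients of fixed vectors -/
theorem coef (h2 : (2 : F) = 0) (hinv : σ.invariants = ⊥) {u : Fin 8 → I27 → F} (hu : Fam σ u) (h0 : u 0 ≠ 0)
    {c : Fin 8 → F} {g : ↥(alternatingGroup (Fin 8))} (hg : σ g (∑ i, c i • u i) = ∑ i, c i • u i) {p : Fin 8}
    (hp : (g : Perm (Fin 8)) p = p) (i : Fin 8) : c ((g : Perm (Fin 8)) i) = c i := by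
  have h1 : ∑ i, (c ((g : Perm (Fin 8)) i) - c i) • u ((g : Perm (Fin 8)) i) = 0 := by
    rw [map_sum] at hg
    simp_rw [sub_smul]
    rw [Finset.sum_sub_distrib, sub_eq_zero]
    rw [Equiv.sum_comp (g : Perm (Fin 8)) (fun i => c i • u i), ← hg]
    exact Finset.sum_congr rfl fun i _ => by rw [map_smul, hu]
  have h3 : ∑ i, (c i - c ((g : Perm (Fin 8)).symm i)) • u i = 0 := by
    rw [← h1, ← Equiv.sum_comp (g : Perm (Fin 8)) (fun i => (c i - c ((g : Perm (Fin 8)).symm i)) • u i)]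
    simp
  have h4 := indep8 h2 hinv hu h0 h3 ((g : Perm (Fin 8)) i) ((g : Perm (Fin 8)) p)
  rw [Equiv.symm_apply_apply, Equiv.symm_apply_apply, hp, sub_self, sub_eq_zero] at h4
  exact h4

/-- the situation -/
structure Dat (u : Fin 8 → I27 → F) (w : Fin 8 → Fin 8 → I27 → F) (b : F) : Prop where
  wd : ∀ i j, cr (u i) (u j) = w i j
  N : ∀ i, cubicT (u i) = b
  T : ∀ i j, tf (sh (u i)) (u j) = b
  TW : ∀ i j k, tf (w i j) (u k) = 0

theorem sum_lt_eq (f : Fin 8 → Fin 8 → F) :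
    ∑ p ∈ Finset.univ.filter (fun p : Fin 8 × Fin 8 => p.1 < p.2), f p.1 p.2 =
    f 0 1 + f 0 2 + f 0 3 + f 0 4 + f 0 5 + f 0 6 + f 0 7 + f 1 2 + f 1 3 + f 1 4 + f 1 5 + f 1 6 + f 1 7 + f 2 3 + f 2 4 +
      f 2 5 + f 2 6 + f 2 7 + f 3 4 + f 3 5 + f 3 6 + f 3 7 + f 4 5 + f 4 6 + f 4 7 + f 5 6 + f 5 7 + f 6 7 := by
  have h1 : (Finset.univ.filter fun p : Fin 8 × Fin 8 => p.1 < p.2) =
      {(0, 1), (0, 2), (0, 3), (0, 4), (0, 5), (0, 6), (0, 7), (1, 2), (1, 3), (1, 4), (1, 5), (1, 6), (1, 7), (2, 3),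
        (2, 4), (2, 5), (2, 6), (2, 7), (3, 4), (3, 5), (3, 6), (3, 7), (4, 5), (4, 6), (4, 7), (5, 6), (5, 7),
        (6, 7)} := by decide +kernel
  rw [h1]
  repeat rw [Finset.sum_insert (by decide +kernel)]
  rw [Finset.sum_singleton]
  simp only [add_assoc]

theorem exists_dat (h2 : (2 : F) = 0) (hP : PD σ σ') (hinv : σ.invariants = ⊥) (hinv' : σ'.invariants = ⊥)
    {u : Fin 8 → I27 → F} (hu : Fam σ u) :
    ∃ w b, Dat u w b ∧ Fam2 σ' w ∧ ∀ i, ∑ j, w i j = 0 := by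
  obtain ⟨w, hwd⟩ : ∃ w : Fin 8 → Fin 8 → I27 → F, w = fun i j => cr (u i) (u j) := ⟨_, rfl⟩
  have hw : Fam2 σ' w := by rw [hwd]; exact fam2_cr h2 hP hu
  have hs : ∑ i, u i = 0 := fam_sum hinv hu
  have hstar : ∀ i, ∑ j, w i j = 0 := fun i => by rw [hwd]; exact star_cr hs _
  have hwij : ∀ i j, cr (u i) (u j) = w i j := fun i j => by rw [hwd]
  clear hwd
  have hsh : ∀ (g : ↥(alternatingGroup (Fin 8))) i j,
      tf (sh (u ((g : Perm (Fin 8)) i))) (u ((g : Perm (Fin 8)) j)) = tf (sh (u i)) (u j) := by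
    intro g i j
    rw [← hu, ← hu, hP.hsh, tf_comm, hP.htf, tf_comm]
  have e1 : ∀ i, tf (sh (u i)) (u i) = tf (sh (u 0)) (u 0) := by
    intro i
    obtain ⟨g, hg⟩ := move1 (n := 8) (by norm_num) 0 i
    rw [← hg, hsh]
  have e2 : ∀ i j, i ≠ j → tf (sh (u i)) (u j) = tf (sh (u 0)) (u 1) := by
    intro i j hij
    obtain ⟨g, g0, g1⟩ := move2 (n := 8) (by norm_num) (a := 0) (b := 1) (by decide) hij
    rw [← g0, ← g1, hsh]
  have e3 : tf (sh (u 0)) (u 1) = tf (sh (u 0)) (u 0) := by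
    have h1 := star_tf hs (sh (u 0))
    rw [Fin.sum_univ_eight, e2 0 2 (by decide), e2 0 3 (by decide), e2 0 4 (by decide), e2 0 5 (by decide),
      e2 0 6 (by decide), e2 0 7 (by decide)] at h1
    linear_combination h1 - tf (sh (u 0)) (u 0) * h2 - 3 * tf (sh (u 0)) (u 1) * h2
  have act : ∀ (g : ↥(alternatingGroup (Fin 8))) (i j k : Fin 8),
      tf (w ((g : Perm (Fin 8)) i) ((g : Perm (Fin 8)) j)) (u ((g : Perm (Fin 8)) k)) = tf (w i j) (u k) := by
    intro g i j k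
    rw [← hw.act, ← hu, hP.symm.htf]
  have f1 : ∀ {a b c : Fin 8}, a ≠ b → a ≠ c → b ≠ c → tf (w a b) (u c) = tf (w 1 2) (u 0) := by
    intro a b c hab hac hbc
    obtain ⟨g, g0, g1, g2⟩ := move3 (n := 8) (by norm_num) (a := 1) (b := 2) (c := 0) (by decide) (by decide)
      (by decide) hab hac hbc
    rw [← g0, ← g1, ← g2, act]
  have f2 : ∀ a b : Fin 8, tf (w a b) (u b) = 0 := by
    intro a b
    rw [← hwij, tf_cr, cr_self2 h2, tf_zero_right]
  have f3 : ∀ a b : Fin 8, tf (w a b) (u a) = 0 := by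
    intro a b
    rw [hw.comm, f2]
  have f4 : tf (w 1 2) (u 0) = 0 := by
    have h1 := fam2_all hw hinv'
    have h3 : ∑ p ∈ Finset.univ.filter (fun p : Fin 8 × Fin 8 => p.1 < p.2), tf (w p.1 p.2) (u 0) = 0 := by
      have h4 := map_sum ((tfB F).flip (u 0)) (fun p : Fin 8 × Fin 8 => w p.1 p.2)
        (Finset.univ.filter (fun p : Fin 8 × Fin 8 => p.1 < p.2))
      rw [h1, map_zero] at h4
      exact h4.symm
    rw [sum_lt_eq (fun i j => tf (w i j) (u 0))] at h3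
    simp only [f3] at h3
    simp only [f1 (show (1 : Fin 8) ≠ 3 by decide) (show (1 : Fin 8) ≠ 0 by decide) (show (3 : Fin 8) ≠ 0 by decide),
      f1 (show (1 : Fin 8) ≠ 4 by decide) (show (1 : Fin 8) ≠ 0 by decide) (show (4 : Fin 8) ≠ 0 by decide),
      f1 (show (1 : Fin 8) ≠ 5 by decide) (show (1 : Fin 8) ≠ 0 by decide) (show (5 : Fin 8) ≠ 0 by decide),
      f1 (show (1 : Fin 8) ≠ 6 by decide) (show (1 : Fin 8) ≠ 0 by decide) (show (6 : Fin 8) ≠ 0 by decide),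
      f1 (show (1 : Fin 8) ≠ 7 by decide) (show (1 : Fin 8) ≠ 0 by decide) (show (7 : Fin 8) ≠ 0 by decide),
      f1 (show (2 : Fin 8) ≠ 3 by decide) (show (2 : Fin 8) ≠ 0 by decide) (show (3 : Fin 8) ≠ 0 by decide),
      f1 (show (2 : Fin 8) ≠ 4 by decide) (show (2 : Fin 8) ≠ 0 by decide) (show (4 : Fin 8) ≠ 0 by decide),
      f1 (show (2 : Fin 8) ≠ 5 by decide) (show (2 : Fin 8) ≠ 0 by decide) (show (5 : Fin 8) ≠ 0 by decide),
      f1 (show (2 : Fin 8) ≠ 6 by decide) (show (2 : Fin 8) ≠ 0 by decide) (show (6 : Fin 8) ≠ 0 by decide),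
      f1 (show (2 : Fin 8) ≠ 7 by decide) (show (2 : Fin 8) ≠ 0 by decide) (show (7 : Fin 8) ≠ 0 by decide),
      f1 (show (3 : Fin 8) ≠ 4 by decide) (show (3 : Fin 8) ≠ 0 by decide) (show (4 : Fin 8) ≠ 0 by decide),
      f1 (show (3 : Fin 8) ≠ 5 by decide) (show (3 : Fin 8) ≠ 0 by decide) (show (5 : Fin 8) ≠ 0 by decide),
      f1 (show (3 : Fin 8) ≠ 6 by decide) (show (3 : Fin 8) ≠ 0 by decide) (show (6 : Fin 8) ≠ 0 by decide),
      f1 (show (3 : Fin 8) ≠ 7 by decide) (show (3 : Fin 8) ≠ 0 by decide) (show (7 : Fin 8) ≠ 0 by decide),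
      f1 (show (4 : Fin 8) ≠ 5 by decide) (show (4 : Fin 8) ≠ 0 by decide) (show (5 : Fin 8) ≠ 0 by decide),
      f1 (show (4 : Fin 8) ≠ 6 by decide) (show (4 : Fin 8) ≠ 0 by decide) (show (6 : Fin 8) ≠ 0 by decide),
      f1 (show (4 : Fin 8) ≠ 7 by decide) (show (4 : Fin 8) ≠ 0 by decide) (show (7 : Fin 8) ≠ 0 by decide),
      f1 (show (5 : Fin 8) ≠ 6 by decide) (show (5 : Fin 8) ≠ 0 by decide) (show (6 : Fin 8) ≠ 0 by decide),
      f1 (show (5 : Fin 8) ≠ 7 by decide) (show (5 : Fin 8) ≠ 0 by decide) (show (7 : Fin 8) ≠ 0 by decide),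
      f1 (show (6 : Fin 8) ≠ 7 by decide) (show (6 : Fin 8) ≠ 0 by decide) (show (7 : Fin 8) ≠ 0 by decide)] at h3
    linear_combination h3 - 10 * tf (w 1 2) (u 0) * h2
  refine ⟨w, tf (sh (u 0)) (u 0), ⟨hwij, ?_, ?_, ?_⟩, hw, hstar⟩
  · intro i
    rw [← e1 i, tf_sh_self, three_one h2]
  · intro i j
    by_cases hij : i = j
    · rw [← hij, e1]
    · rw [e2 i j hij, e3]
  · intro i j k
    by_cases hij : i = j
    · rw [hij, hw.diag, tf_zero_left]
    by_cases hik : i = k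
    · rw [← hik, f3]
    by_cases hjk : j = k
    · rw [← hjk, f2]
    rw [f1 hij hik hjk, f4]

/-! ### identities -/

theorem solve2 (h2 : (2 : F) = 0) {M : Type*} [AddCommGroup M] [Module F M] {x y z : M} (h : x + y = z) : x = y + z := by
  rw [← h, add_comm x y, ← add_assoc, add_self2 h2, zero_add]

variable {u : Fin 8 → I27 → F} {w : Fin 8 → Fin 8 → I27 → F} {b : F}

theorem Dat.comm (D : Dat u w b) (i j : Fin 8) : w i j = w j i := by rw [← D.wd, cr_comm, D.wd]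

theorem Dat.diag (h2 : (2 : F) = 0) (D : Dat u w b) (i : Fin 8) : w i i = 0 := by rw [← D.wd, cr_self2 h2]

theorem Dat.TW' (D : Dat u w b) (i j k : Fin 8) : tf (u k) (w i j) = 0 := by rw [tf_comm, D.TW]

theorem Dat.T' (D : Dat u w b) (i j : Fin 8) : tf (u j) (sh (u i)) = b := by rw [tf_comm, D.T]

theorem Dat.R1 (h2 : (2 : F) = 0) (D : Dat u w b) (i j k : Fin 8) :
    cr (w i j) (w i k) = cr (sh (u i)) (w j k) + (b • u k + b • u j) := by
  have h := cr_cr (u i) (u j) (u k)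
  rw [D.wd, D.wd, D.wd, D.T, D.T, D.TW', zero_smul, add_zero] at h
  exact solve2 h2 h

theorem Dat.R2 (D : Dat u w b) (i k : Fin 8) : cr (sh (u i)) (w i k) = b • u k + b • u i := by
  have h := cr_sh_cr (u i) (u k)
  rw [D.wd, D.N, D.T] at h
  exact h

theorem Dat.R3 (h2 : (2 : F) = 0) (D : Dat u w b) (i j : Fin 8) :
    sh (w i j) = cr (sh (u i)) (sh (u j)) + (b • u j + b • u i) := by
  have h := sh_cr (u i) (u j)
  rw [D.wd, D.T, D.T'] at h
  exact solve2 h2 h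

/-- `tf` of a combination of two `u` -/
theorem Dat.TUW (D : Dat u w b) (c d : F) (i j k l : Fin 8) : tf (c • u i + d • u j) (w k l) = 0 := by
  rw [tf_add_left, tf_smul_left, tf_smul_left, D.TW', D.TW', mul_zero, mul_zero, add_zero]

theorem Dat.TUS (h2 : (2 : F) = 0) (D : Dat u w b) (c : F) (i j k : Fin 8) : tf (c • u i + c • u j) (sh (u k)) = 0 := by
  rw [tf_add_left, tf_smul_left, tf_smul_left, D.T', D.T', z2 h2]

theorem Dat.E0 (h2 : (2 : F) = 0) (D : Dat u w b) (i j l : Fin 8) : tf (cr (sh (u i)) (sh (u j))) (w i l) = 0 := by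
  rw [cr_comm, tf_cr, D.R2, tf_comm, D.TUS h2]

theorem Dat.E1 (h2 : (2 : F) = 0) (hP : PD σ σ') (hu : Fam σ u) (hw : Fam2 σ' w) (hstar : ∀ i, ∑ j, w i j = 0)
    (D : Dat u w b) (i j k l : Fin 8) : tf (cr (sh (u i)) (sh (u j))) (w k l) = 0 := by
  have act : ∀ (g : ↥(alternatingGroup (Fin 8))) (i j k l : Fin 8),
      tf (cr (sh (u ((g : Perm (Fin 8)) i))) (sh (u ((g : Perm (Fin 8)) j))))
        (w ((g : Perm (Fin 8)) k) ((g : Perm (Fin 8)) l)) = tf (cr (sh (u i)) (sh (u j))) (w k l) := by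
    intro g i j k l
    rw [← hu, ← hu, hP.hsh, hP.hsh, hP.symm.hcr, ← hw.act, hP.htf]
  by_cases hij : i = j
  · rw [hij, cr_self2 h2, tf_zero_left]
  by_cases hkl : k = l
  · rw [hkl, D.diag h2, tf_zero_right]
  by_cases hik : i = k
  · rw [← hik, D.E0 h2]
  by_cases hil : i = l
  · rw [← hil, D.comm, D.E0 h2]
  by_cases hjk : j = k
  · rw [← hjk, cr_comm, D.E0 h2]
  by_cases hjl : j = l
  · rw [← hjl, D.comm, cr_comm, D.E0 h2]
  have e1 : ∀ {a b c d : Fin 8}, a ≠ b → a ≠ c → a ≠ d → b ≠ c → b ≠ d → c ≠ d →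
      tf (cr (sh (u a)) (sh (u b))) (w c d) = tf (cr (sh (u 0)) (sh (u 1))) (w 2 3) := by
    intro a b c d h1 h2' h3 h4 h5 h6
    obtain ⟨g, g0, g1, g2, g3⟩ := move4 (n := 8) (by norm_num) (a := 0) (b := 1) (c := 2) (d := 3) (by decide)
      (by decide) (by decide) (by decide) (by decide) (by decide) h1 h2' h3 h4 h5 h6
    rw [← g0, ← g1, ← g2, ← g3, act]
  rw [e1 hij hik hil hjk hjl hkl]
  have h1 := star_tf (hstar 2) (cr (sh (u 0)) (sh (u 1)))
  rw [Fin.sum_univ_eight, D.comm 2 0, D.comm 2 1, D.diag h2, D.E0 h2, cr_comm (sh (u 0)) (sh (u 1)), D.E0 h2,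
    cr_comm (sh (u 1)) (sh (u 0)), tf_zero_right,
    e1 (c := 2) (d := 4) (by decide) (by decide) (by decide) (by decide) (by decide) (by decide),
    e1 (c := 2) (d := 5) (by decide) (by decide) (by decide) (by decide) (by decide) (by decide),
    e1 (c := 2) (d := 6) (by decide) (by decide) (by decide) (by decide) (by decide) (by decide),
    e1 (c := 2) (d := 7) (by decide) (by decide) (by decide) (by decide) (by decide) (by decide)] at h1
  linear_combination h1 - 2 * tf (cr (sh (u 0)) (sh (u 1))) (w 2 3) * h2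

theorem tri_swap (a b c : I27 → F) : tf (cr a b) c = tf (cr a c) b := by rw [tf_cr, cr_comm b c, ← tf_cr]

theorem inj_five {n : ℕ} {a b c d e : Fin n} (h1 : a ≠ b) (h2 : a ≠ c) (h3 : a ≠ d) (h4 : a ≠ e) (h5 : b ≠ c)
    (h6 : b ≠ d) (h7 : b ≠ e) (h8 : c ≠ d) (h9 : c ≠ e) (h10 : d ≠ e) : Function.Injective ![a, b, c, d, e] := by
  intro i j hij
  fin_cases i <;> fin_cases j <;> simp_all

theorem inj_six {n : ℕ} {a b c d e f : Fin n} (h1 : a ≠ b) (h2 : a ≠ c) (h3 : a ≠ d) (h4 : a ≠ e) (h5 : b ≠ c)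
    (h6 : b ≠ d) (h7 : b ≠ e) (h8 : c ≠ d) (h9 : c ≠ e) (h10 : d ≠ e) (k1 : a ≠ f) (k2 : b ≠ f) (k3 : c ≠ f)
    (k4 : d ≠ f) (k5 : e ≠ f) : Function.Injective ![a, b, c, d, e, f] := by
  intro i j hij
  fin_cases i <;> fin_cases j <;> simp_all

theorem Dat.Z2a (h2 : (2 : F) = 0) (hP : PD σ σ') (hu : Fam σ u) (hw : Fam2 σ' w) (hstar : ∀ i, ∑ j, w i j = 0)
    (D : Dat u w b) (i j k m : Fin 8) : tf (sh (u i)) (cr (w j k) (w j m)) = 0 := by
  rw [D.R1 h2, tf_add_right, ← tf_cr, D.E1 h2 hP hu hw hstar, zero_add, tf_comm, D.TUS h2]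

theorem Dat.Z2b (D : Dat u w b) (i k l m : Fin 8) : tf (sh (u i)) (cr (w i k) (w l m)) = 0 := by
  rw [← tf_cr, D.R2, D.TUW]

theorem Dat.Z2 (h2 : (2 : F) = 0) (hP : PD σ σ') (hu : Fam σ u) (hw : Fam2 σ' w) (hstar : ∀ i, ∑ j, w i j = 0)
    (D : Dat u w b) (i j k l m : Fin 8) : tf (sh (u i)) (cr (w j k) (w l m)) = 0 := by
  have act : ∀ (g : ↥(alternatingGroup (Fin 8))) (i j k l m : Fin 8),
      tf (sh (u ((g : Perm (Fin 8)) i))) (cr (w ((g : Perm (Fin 8)) j) ((g : Perm (Fin 8)) k))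
        (w ((g : Perm (Fin 8)) l) ((g : Perm (Fin 8)) m))) = tf (sh (u i)) (cr (w j k) (w l m)) := by
    intro g i j k l m
    rw [← hu, hP.hsh, ← hw.act, ← hw.act, hP.symm.hcr, hP.symm.htf]
  by_cases hjk : j = k
  · rw [hjk, D.diag h2, cr_zero_left, tf_zero_right]
  by_cases hlm : l = m
  · rw [hlm, D.diag h2, cr_zero_right, tf_zero_right]
  by_cases hij : i = j
  · rw [hij, D.Z2b]
  by_cases hik : i = k
  · rw [hik, D.comm j k, D.Z2b]
  by_cases hil : i = l
  · rw [hil, cr_comm, D.Z2b]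
  by_cases him : i = m
  · rw [him, cr_comm, D.comm l m, D.Z2b]
  by_cases hjl : j = l
  · rw [hjl, D.Z2a h2 hP hu hw hstar]
  by_cases hjm : j = m
  · rw [hjm, D.comm l m, D.Z2a h2 hP hu hw hstar]
  by_cases hkl : k = l
  · rw [hkl, D.comm j l, D.Z2a h2 hP hu hw hstar]
  by_cases hkm : k = m
  · rw [hkm, D.comm j m, D.comm l m, D.Z2a h2 hP hu hw hstar]
  have e1 : ∀ {a b c d e a' b' c' d' e' : Fin 8}, Function.Injective ![a, b, c, d, e] →
      Function.Injective ![a', b', c', d', e'] → tf (sh (u a)) (cr (w b c) (w d e)) =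
        tf (sh (u a')) (cr (w b' c') (w d' e')) := by
    intro a b c d e a' b' c' d' e' h h'
    obtain ⟨g, hg⟩ := move (n := 8) (k := 5) (by norm_num) ⟨_, h⟩ ⟨_, h'⟩
    have g0 : (g : Perm (Fin 8)) a = a' := hg 0
    have g1 : (g : Perm (Fin 8)) b = b' := hg 1
    have g2 : (g : Perm (Fin 8)) c = c' := hg 2
    have g3 : (g : Perm (Fin 8)) d = d' := hg 3
    have g4 : (g : Perm (Fin 8)) e = e' := hg 4
    rw [← g0, ← g1, ← g2, ← g3, ← g4, act]
  have h1 := congrArg (tf (sh (u i))) (cr_four (u j) (u l) (u k) (u m))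
  simp only [D.wd] at h1
  rw [D.TW, D.TW, D.TW', D.TW', zero_smul, zero_smul, zero_smul, zero_smul, add_zero, add_zero, add_zero, tf_zero_right,
    tf_add_right, tf_add_right] at h1
  rw [e1 (a := i) (b := l) (c := k) (d := j) (e := m) (a' := i) (b' := j) (c' := k) (d' := l) (e' := m)
      (inj_five hil hik hij him (Ne.symm hkl) (Ne.symm hjl) hlm (Ne.symm hjk) hkm hjm)
      (inj_five hij hik hil him hjk hjl hjm hkl hkm hlm),
    e1 (a := i) (b := j) (c := l) (d := k) (e := m) (a' := i) (b' := j) (c' := k) (d' := l) (e' := m)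
      (inj_five hij hil hik him hjl hjk hjm (Ne.symm hkl) hlm hkm)
      (inj_five hij hik hil him hjk hjl hjm hkl hkm hlm)] at h1
  linear_combination h1 - tf (sh (u i)) (cr (w j k) (w l m)) * h2

theorem Dat.T1 (h2 : (2 : F) = 0) (hP : PD σ σ') (hu : Fam σ u) (hw : Fam2 σ' w) (hstar : ∀ i, ∑ j, w i j = 0)
    (D : Dat u w b) (i j k l m : Fin 8) : tf (cr (w i j) (w i k)) (w l m) = 0 := by
  rw [D.R1 h2, tf_add_left, D.TUW, add_zero, tf_cr, D.Z2 h2 hP hu hw hstar]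

theorem Dat.T2 (h2 : (2 : F) = 0) (hP : PD σ σ') (hu : Fam σ u) (hw : Fam2 σ' w) (hstar : ∀ i, ∑ j, w i j = 0)
    (D : Dat u w b) (i j k l m n : Fin 8) : tf (cr (w i j) (w k l)) (w m n) = 0 := by
  have T1 := D.T1 h2 hP hu hw hstar
  -- one pair meets another one
  have T1' : ∀ i j k l m n : Fin 8, (i = k ∨ i = l ∨ j = k ∨ j = l) → tf (cr (w i j) (w k l)) (w m n) = 0 := by
    rintro i j k l m n (rfl | rfl | rfl | rfl)
    · exact T1 _ _ _ _ _
    · rw [D.comm k i]; exact T1 _ _ _ _ _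
    · rw [D.comm i j]; exact T1 _ _ _ _ _
    · rw [D.comm i j, D.comm k j]; exact T1 _ _ _ _ _
  by_cases hij : i = j
  · rw [hij, D.diag h2, cr_zero_left, tf_zero_left]
  by_cases hkl : k = l
  · rw [hkl, D.diag h2, cr_zero_right, tf_zero_left]
  by_cases hmn : m = n
  · rw [hmn, D.diag h2, tf_zero_right]
  by_cases h1 : i = k ∨ i = l ∨ j = k ∨ j = l
  · exact T1' _ _ _ _ _ _ h1
  by_cases h3 : i = m ∨ i = n ∨ j = m ∨ j = n
  · rw [tri_swap]; exact T1' _ _ _ _ _ _ h3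
  by_cases h4 : k = m ∨ k = n ∨ l = m ∨ l = n
  · rw [cr_comm, tri_swap]; exact T1' _ _ _ _ _ _ h4
  simp only [not_or] at h1 h3 h4
  obtain ⟨ik, il, jk, jl⟩ := h1
  obtain ⟨im, hin, jm, jn⟩ := h3
  obtain ⟨km, kn, lm, ln⟩ := h4
  have act : ∀ (g : ↥(alternatingGroup (Fin 8))) (i j k l m n : Fin 8),
      tf (cr (w ((g : Perm (Fin 8)) i) ((g : Perm (Fin 8)) j)) (w ((g : Perm (Fin 8)) k) ((g : Perm (Fin 8)) l)))
        (w ((g : Perm (Fin 8)) m) ((g : Perm (Fin 8)) n)) = tf (cr (w i j) (w k l)) (w m n) := by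
    intro g i j k l m n
    rw [← hw.act, ← hw.act, ← hw.act, hP.symm.hcr, hP.htf]
  have e1 : ∀ {a b c d e f : Fin 8}, Function.Injective ![a, b, c, d, e, f] →
      tf (cr (w a b) (w c d)) (w e f) = tf (cr (w 0 1) (w 2 3)) (w 4 5) := by
    intro a b c d e f h
    obtain ⟨g, hg⟩ := move (n := 8) (k := 6) (by norm_num) ⟨![0, 1, 2, 3, 4, 5], by decide⟩ ⟨_, h⟩
    have g0 : (g : Perm (Fin 8)) 0 = a := hg 0
    have g1 : (g : Perm (Fin 8)) 1 = b := hg 1
    have g2 : (g : Perm (Fin 8)) 2 = c := hg 2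
    have g3 : (g : Perm (Fin 8)) 3 = d := hg 3
    have g4 : (g : Perm (Fin 8)) 4 = e := hg 4
    have g5 : (g : Perm (Fin 8)) 5 = f := hg 5
    rw [← g0, ← g1, ← g2, ← g3, ← g4, ← g5, act]
  rw [e1 (inj_six hij ik il im jk jl jm hkl km lm hin jn kn ln hmn)]
  have h5 := star_tf (hstar 4) (cr (w 0 1) (w 2 3))
  rw [Fin.sum_univ_eight, D.diag h2, tf_zero_right, tri_swap _ _ (w 4 0), T1' 0 1 4 0 _ _ (by tauto),
    tri_swap _ _ (w 4 1), T1' 0 1 4 1 _ _ (by tauto), cr_comm (w 0 1) (w 2 3), tri_swap _ _ (w 4 2),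
    T1' 2 3 4 2 _ _ (by tauto), tri_swap _ _ (w 4 3), T1' 2 3 4 3 _ _ (by tauto), cr_comm (w 2 3) (w 0 1),
    e1 (a := 0) (b := 1) (c := 2) (d := 3) (e := 4) (f := 6) (by decide),
    e1 (a := 0) (b := 1) (c := 2) (d := 3) (e := 4) (f := 7) (by decide)] at h5
  linear_combination h5 - tf (cr (w 0 1) (w 2 3)) (w 4 5) * h2

theorem Dat.T3 (h2 : (2 : F) = 0) (hP : PD σ σ') (hu : Fam σ u) (hw : Fam2 σ' w) (hstar : ∀ i, ∑ j, w i j = 0)
    (D : Dat u w b) (i j k l : Fin 8) : tf (sh (w i j)) (w k l) = 0 := by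
  rw [D.R3 h2, tf_add_left, D.E1 h2 hP hu hw hstar, D.TUW, add_zero]

/-! ### group elements -/

def g234 : ↥(alternatingGroup (Fin 8)) := ⟨c[2, 3, 4], Perm.mem_alternatingGroup.2 (by decide +kernel)⟩
def g345 : ↥(alternatingGroup (Fin 8)) := ⟨c[3, 4, 5], Perm.mem_alternatingGroup.2 (by decide +kernel)⟩
def g456 : ↥(alternatingGroup (Fin 8)) := ⟨c[4, 5, 6], Perm.mem_alternatingGroup.2 (by decide +kernel)⟩
def g567 : ↥(alternatingGroup (Fin 8)) := ⟨c[5, 6, 7], Perm.mem_alternatingGroup.2 (by decide +kernel)⟩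
def g123 : ↥(alternatingGroup (Fin 8)) := ⟨c[1, 2, 3], Perm.mem_alternatingGroup.2 (by decide +kernel)⟩
def h0123 : ↥(alternatingGroup (Fin 8)) := ⟨swap 0 1 * swap 2 3, Perm.mem_alternatingGroup.2 (by decide +kernel)⟩
def h0145 : ↥(alternatingGroup (Fin 8)) := ⟨swap 0 1 * swap 4 5, Perm.mem_alternatingGroup.2 (by decide +kernel)⟩
def h2345 : ↥(alternatingGroup (Fin 8)) := ⟨swap 2 3 * swap 4 5, Perm.mem_alternatingGroup.2 (by decide +kernel)⟩
def h0213 : ↥(alternatingGroup (Fin 8)) := ⟨swap 0 2 * swap 1 3, Perm.mem_alternatingGroup.2 (by decide +kernel)⟩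
def h1234 : ↥(alternatingGroup (Fin 8)) := ⟨swap 1 2 * swap 3 4, Perm.mem_alternatingGroup.2 (by decide +kernel)⟩

/-- the vector `sh (w 0 1)` -/
theorem shape1 (h2 : (2 : F) = 0) (hinv : σ.invariants = ⊥) {u : Fin 8 → I27 → F} (hu : Fam σ u) (h0 : u 0 ≠ 0)
    {c : Fin 8 → F} (h : ∀ g : ↥(alternatingGroup (Fin 8)), ((g : Perm (Fin 8)) 0 = 0 ∧ (g : Perm (Fin 8)) 1 = 1) ∨
      ((g : Perm (Fin 8)) 0 = 1 ∧ (g : Perm (Fin 8)) 1 = 0) → σ g (∑ i, c i • u i) = ∑ i, c i • u i) :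
    ∃ k : F, ∑ i, c i • u i = k • (u 0 + u 1) := by
  have key := fun {g : ↥(alternatingGroup (Fin 8))} (hg : σ g (∑ i, c i • u i) = ∑ i, c i • u i) {p : Fin 8}
    (hp : (g : Perm (Fin 8)) p = p) => coef h2 hinv hu h0 hg hp
  have a1 := key (h g234 (by decide +kernel)) (p := 0) (by decide +kernel)
  have a2 := key (h g456 (by decide +kernel)) (p := 0) (by decide +kernel)
  have a3 := key (h g567 (by decide +kernel)) (p := 0) (by decide +kernel)
  have a4 := key (h h0123 (by decide +kernel)) (p := 4) (by decide +kernel)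
  have e3 : c 3 = c 2 := a1 2
  have e4 : c 4 = c 3 := a1 3
  have e5 : c 5 = c 4 := a2 4
  have e6 : c 6 = c 5 := a2 5
  have e7 : c 7 = c 6 := a3 6
  have e1 : c 1 = c 0 := a4 0
  have hs := fam_sum hinv hu
  rw [Fin.sum_univ_eight] at hs ⊢
  refine ⟨c 0 + c 2, ?_⟩
  rw [e7, e6, e5, e4, e3, e1]
  have h5 : u 2 + u 3 + u 4 + u 5 + u 6 + u 7 = u 0 + u 1 := by
    apply eq_of_add2 h2
    rw [← hs]
    abel
  have h6 : c 0 • u 0 + c 0 • u 1 + c 2 • u 2 + c 2 • u 3 + c 2 • u 4 + c 2 • u 5 + c 2 • u 6 + c 2 • u 7 =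
      c 0 • (u 0 + u 1) + c 2 • (u 2 + u 3 + u 4 + u 5 + u 6 + u 7) := by module
  rw [h6, h5, add_smul]

/-- the vector `cr (w 0 1) (w 2 3)` -/
theorem shape2 (h2 : (2 : F) = 0) (hinv : σ.invariants = ⊥) {u : Fin 8 → I27 → F} (hu : Fam σ u) (h0 : u 0 ≠ 0)
    {c : Fin 8 → F} (h : ∀ g ∈ [g456, g567, h0145, h2345, h0213], σ g (∑ i, c i • u i) = ∑ i, c i • u i) :
    ∃ k : F, ∑ i, c i • u i = k • (u 0 + u 1 + u 2 + u 3) := by
  have key := fun {g : ↥(alternatingGroup (Fin 8))} (hg : σ g (∑ i, c i • u i) = ∑ i, c i • u i) {p : Fin 8}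
    (hp : (g : Perm (Fin 8)) p = p) => coef h2 hinv hu h0 hg hp
  have a1 := key (h g456 (by simp)) (p := 0) (by decide +kernel)
  have a2 := key (h g567 (by simp)) (p := 0) (by decide +kernel)
  have a3 := key (h h0145 (by simp)) (p := 2) (by decide +kernel)
  have a4 := key (h h2345 (by simp)) (p := 0) (by decide +kernel)
  have a5 := key (h h0213 (by simp)) (p := 4) (by decide +kernel)
  have e5 : c 5 = c 4 := a1 4
  have e6 : c 6 = c 5 := a1 5
  have e7 : c 7 = c 6 := a2 6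
  have e1 : c 1 = c 0 := a3 0
  have e3 : c 3 = c 2 := a4 2
  have e2 : c 2 = c 0 := a5 0
  have hs := fam_sum hinv hu
  rw [Fin.sum_univ_eight] at hs ⊢
  refine ⟨c 0 + c 4, ?_⟩
  rw [e7, e6, e5, e3, e2, e1]
  have h5 : u 4 + u 5 + u 6 + u 7 = u 0 + u 1 + u 2 + u 3 := by
    apply eq_of_add2 h2
    rw [← hs]
    abel
  have h6 : c 0 • u 0 + c 0 • u 1 + c 0 • u 2 + c 0 • u 3 + c 4 • u 4 + c 4 • u 5 + c 4 • u 6 + c 4 • u 7 =
      c 0 • (u 0 + u 1 + u 2 + u 3) + c 4 • (u 4 + u 5 + u 6 + u 7) := by module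
  rw [h6, h5, add_smul]

/-- the vector `cr (w 0 1) (w 0 2)` -/
theorem shape3 (h2 : (2 : F) = 0) (hinv : σ.invariants = ⊥) {u : Fin 8 → I27 → F} (hu : Fam σ u) (h0 : u 0 ≠ 0)
    {c : Fin 8 → F} (h : ∀ g ∈ [g345, g567, h1234], σ g (∑ i, c i • u i) = ∑ i, c i • u i) :
    ∃ a k : F, ∑ i, c i • u i = a • u 0 + k • (u 1 + u 2) := by
  have key := fun {g : ↥(alternatingGroup (Fin 8))} (hg : σ g (∑ i, c i • u i) = ∑ i, c i • u i) {p : Fin 8}
    (hp : (g : Perm (Fin 8)) p = p) => coef h2 hinv hu h0 hg hp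
  have a1 := key (h g345 (by simp)) (p := 0) (by decide +kernel)
  have a2 := key (h g567 (by simp)) (p := 0) (by decide +kernel)
  have a3 := key (h h1234 (by simp)) (p := 0) (by decide +kernel)
  have e4 : c 4 = c 3 := a1 3
  have e5 : c 5 = c 4 := a1 4
  have e6 : c 6 = c 5 := a2 5
  have e7 : c 7 = c 6 := a2 6
  have e2 : c 2 = c 1 := a3 1
  have hs := fam_sum hinv hu
  rw [Fin.sum_univ_eight] at hs ⊢
  refine ⟨c 0 + c 3, c 1 + c 3, ?_⟩
  rw [e7, e6, e5, e4, e2]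
  have h5 : u 3 + u 4 + u 5 + u 6 + u 7 = u 0 + u 1 + u 2 := by
    apply eq_of_add2 h2
    rw [← hs]
    abel
  have h6 : c 0 • u 0 + c 1 • u 1 + c 1 • u 2 + c 3 • u 3 + c 3 • u 4 + c 3 • u 5 + c 3 • u 6 + c 3 • u 7 =
      c 0 • u 0 + c 1 • (u 1 + u 2) + c 3 • (u 3 + u 4 + u 5 + u 6 + u 7) := by module
  rw [h6, h5]
  module

/-- orthogonal vectors are combinations of the `u i` -/
theorem exists_comb (h2 : (2 : F) = 0) (hinv : σ.invariants = ⊥) (hu : Fam σ u) (h0 : u 0 ≠ 0) (hw : Fam2 σ' w)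
    (D : Dat u w b) (hZ : Z w 0 1 2 3 ≠ 0) {x : I27 → F} (hx : ∀ k l, tf x (w k l) = 0) :
    ∃ c : Fin 8 → F, ∑ i, c i • u i = x := by
  have hli := Cfsg.Agent.H905.E6T.indep h2 (by norm_num) good8 hw (z0 := 0) (z1 := 1) (z2 := 2) (z3 := 3) rfl rfl rfl rfl
    hZ
  have h1 := finrank_span_eq_card hli
  rw [card_BP8] at h1
  set M := Submodule.span F (Set.range fun p : Fin 8 × Fin 8 => w p.1 p.2) with hM
  have h3 : Submodule.span F (Set.range fun p : {p : Fin 8 × Fin 8 // BP p} => w p.1.1 p.1.2) ≤ M := by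
    apply Submodule.span_mono
    rintro _ ⟨p, rfl⟩
    exact ⟨p.1, rfl⟩
  have h4 := Submodule.finrank_mono h3
  have h5 := finrank_perp M
  have h6 : Submodule.span F (Set.range u) ≤ perp M := by
    rw [Submodule.span_le]
    rintro _ ⟨i, rfl⟩
    rw [SetLike.mem_coe, hM, perp_span]
    intro p
    exact D.TW _ _ _
  have h7 := finrank_fam8 h2 hinv hu h0
  have h8 := Submodule.eq_of_le_of_finrank_le h6 (by omega)
  have h9 : x ∈ perp M := by
    rw [hM, perp_span]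
    intro p
    rw [tf_comm]
    exact hx _ _
  rw [← h8] at h9
  exact (Submodule.mem_span_range_iff_exists_fun F).1 h9

/-- the action on products of the `w i j` -/
theorem act_cr (hP : PD σ σ') (hw : Fam2 σ' w) (g : ↥(alternatingGroup (Fin 8))) (i j k l : Fin 8) :
    σ g (cr (w i j) (w k l)) = cr (w ((g : Perm (Fin 8)) i) ((g : Perm (Fin 8)) j))
      (w ((g : Perm (Fin 8)) k) ((g : Perm (Fin 8)) l)) := by
  rw [← hw.act, ← hw.act, hP.symm.hcr]

theorem act_sh (hP : PD σ σ') (hw : Fam2 σ' w) (g : ↥(alternatingGroup (Fin 8))) (i j : Fin 8) :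
    σ g (sh (w i j)) = sh (w ((g : Perm (Fin 8)) i) ((g : Perm (Fin 8)) j)) := by
  rw [← hw.act, hP.hsh']

theorem u_ne (hinv : σ.invariants = ⊥) (hu : Fam σ u) (h0 : u 0 ≠ 0) (h2 : (2 : F) = 0) : u 0 + u 1 ≠ 0 := by
  intro h
  have h1 := fam_const (by norm_num) hinv hu (a := 0) (b := 1) (by decide) (eq_of_add2 h2 h) 0
  exact h0 h1

theorem caseB1 (h2 : (2 : F) = 0) (hP : PD σ σ') (hinv : σ.invariants = ⊥)
    (hu : Fam σ u) (h0 : u 0 ≠ 0) (hw : Fam2 σ' w) (hstar : ∀ i, ∑ j, w i j = 0) (D : Dat u w b)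
    (hZ : Z w 0 1 2 3 ≠ 0) : sh (w 0 1) = 0 := by
  obtain ⟨c, hc⟩ := exists_comb h2 hinv hu h0 hw D hZ (x := sh (w 0 1)) (fun k l => D.T3 h2 hP hu hw hstar 0 1 k l)
  obtain ⟨k, hk⟩ := shape1 h2 hinv hu h0 (c := c) (by
    intro g hg
    rw [hc, act_sh hP hw]
    rcases hg with ⟨h1, h3⟩ | ⟨h1, h3⟩
    · rw [h1, h3]
    · rw [h1, h3, D.comm])
  rw [hc] at hk
  by_cases hk0 : k = 0
  · rw [hk, hk0, zero_smul]
  exfalso
  have h1 : cubicT (w 0 1) = 0 := by
    have h3 := D.T3 h2 hP hu hw hstar 0 1 0 1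
    rw [tf_sh_self, three_one h2] at h3
    exact h3
  have h3 := sh_sh (w 0 1)
  rw [h1, zero_smul, hk, sh_smul] at h3
  have h4 := (smul_eq_zero.1 h3).resolve_left (pow_ne_zero 2 hk0)
  rw [sh_add, D.wd] at h4
  have h5 : w 0 1 = sh (u 0) + sh (u 1) := (eq_of_add2 h2 h4).symm
  have h6 : ∀ i j : Fin 8, i ≠ j → w i j = sh (u i) + sh (u j) := by
    intro i j hij
    obtain ⟨g, g0, g1⟩ := move2 (n := 8) (by norm_num) (a := 0) (b := 1) (by decide) hij
    have h7 := congrArg (σ' g) h5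
    rw [hw.act, map_add, ← hP.hsh, ← hP.hsh, hu, hu, g0, g1] at h7
    exact h7
  apply hZ
  unfold Z
  rw [h6 0 2 (by decide), h6 1 2 (by decide), h6 0 3 (by decide), h6 1 3 (by decide)]
  have h7 : sh (u 0) + sh (u 2) + (sh (u 1) + sh (u 2)) + (sh (u 0) + sh (u 3)) + (sh (u 1) + sh (u 3)) =
      (sh (u 0) + sh (u 0)) + (sh (u 1) + sh (u 1)) + (sh (u 2) + sh (u 2)) + (sh (u 3) + sh (u 3)) := by abel
  rw [h7]
  simp only [add_self2 h2, add_zero]

theorem caseB2 (h2 : (2 : F) = 0) (hP : PD σ σ') (hinv : σ.invariants = ⊥)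
    (hu : Fam σ u) (h0 : u 0 ≠ 0) (hw : Fam2 σ' w) (hstar : ∀ i, ∑ j, w i j = 0) (D : Dat u w b)
    (hZ : Z w 0 1 2 3 ≠ 0) : cr (w 0 1) (w 2 3) = 0 := by
  obtain ⟨c, hc⟩ := exists_comb h2 hinv hu h0 hw D hZ (x := cr (w 0 1) (w 2 3))
    (fun k l => D.T2 h2 hP hu hw hstar 0 1 2 3 k l)
  obtain ⟨k, hk⟩ := shape2 h2 hinv hu h0 (c := c) (by
    intro g hg
    rw [hc, act_cr hP hw]
    simp only [List.mem_cons, List.not_mem_nil, or_false] at hg
    rcases hg with rfl | rfl | rfl | rfl | rfl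
    · rfl
    · rfl
    · change cr (w 1 0) (w 2 3) = _
      rw [D.comm 1 0]
    · change cr (w 0 1) (w 3 2) = _
      rw [D.comm 3 2]
    · change cr (w 2 3) (w 0 1) = _
      rw [cr_comm])
  rw [hc] at hk
  have h1 : cr (w 0 2) (w 3 1) = k • (u 0 + u 2 + u 3 + u 1) := by
    have h3 := congrArg (σ g123) hk
    rw [act_cr hP hw, map_smul, map_add, map_add, map_add, hu, hu, hu, hu] at h3
    exact h3
  have h3 : cr (w 0 3) (w 1 2) = k • (u 0 + u 3 + u 1 + u 2) := by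
    have h3 := congrArg (σ g123) h1
    rw [act_cr hP hw, map_smul, map_add, map_add, map_add, hu, hu, hu, hu] at h3
    exact h3
  have h4 := cr_four (u 0) (u 2) (u 1) (u 3)
  simp only [D.wd] at h4
  rw [D.TW, D.TW, D.TW', D.TW', zero_smul, zero_smul, zero_smul, zero_smul, add_zero, add_zero, add_zero,
    D.comm 1 3, h1, hk, D.comm 2 1, cr_comm (w 1 2), h3] at h4
  have h5 : k • (u 0 + u 1 + u 2 + u 3) + k • (u 0 + u 3 + u 1 + u 2) + k • (u 0 + u 2 + u 3 + u 1) =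
      k • (u 0 + u 1 + u 2 + u 3) + (k • (u 0 + u 1 + u 2 + u 3) + k • (u 0 + u 1 + u 2 + u 3)) := by module
  rw [h5, add_self2 h2, add_zero] at h4
  rw [hk, h4]

theorem caseB3 (h2 : (2 : F) = 0) (hP : PD σ σ') (hinv : σ.invariants = ⊥)
    (hu : Fam σ u) (h0 : u 0 ≠ 0) (hw : Fam2 σ' w) (hstar : ∀ i, ∑ j, w i j = 0) (D : Dat u w b)
    (hZ : Z w 0 1 2 3 ≠ 0) : cr (w 0 1) (w 0 2) = 0 := by
  obtain ⟨c, hc⟩ := exists_comb h2 hinv hu h0 hw D hZ (x := cr (w 0 1) (w 0 2))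
    (fun k l => D.T2 h2 hP hu hw hstar 0 1 0 2 k l)
  obtain ⟨a, k, hk⟩ := shape3 h2 hinv hu h0 (c := c) (by
    intro g hg
    rw [hc, act_cr hP hw]
    simp only [List.mem_cons, List.not_mem_nil, or_false] at hg
    rcases hg with rfl | rfl | rfl
    · rfl
    · rfl
    · change cr (w 0 2) (w 0 1) = _
      rw [cr_comm])
  rw [hc] at hk
  have hB := caseB2 h2 hP hinv hu h0 hw hstar D hZ
  have hne := u_ne hinv hu h0 h2
  -- the general member
  have h1 : ∀ j : Fin 8, j ≠ 0 → j ≠ 1 → cr (w 0 1) (w 0 j) = a • u 0 + k • (u 1 + u j) := by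
    intro j hj0 hj1
    obtain ⟨g, g0, g1, g2⟩ := move3 (n := 8) (by norm_num) (a := 0) (b := 1) (c := 2) (a' := 0) (b' := 1) (c' := j)
      (by decide) (by decide) (by decide) (by decide) (Ne.symm hj0) (Ne.symm hj1)
    have h3 := congrArg (σ g) hk
    rw [act_cr hP hw, map_add, map_smul, map_smul, map_add, hu, hu, hu, g0, g1, g2] at h3
    exact h3
  have h3 := star_cr (hstar 0) (w 0 1)
  have h4 : ∑ j, cr (w 0 1) (w 0 j) = 0 := by
    have h5 := map_sum (crB F (w 0 1)) (w 0) Finset.univ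
    rw [hstar 0, map_zero] at h5
    exact h5.symm
  have hk0 : k = 0 := by
    rw [Fin.sum_univ_eight, D.diag h2, cr_zero_right, cr_self2 h2, h1 2 (by decide) (by decide),
      h1 3 (by decide) (by decide), h1 4 (by decide) (by decide), h1 5 (by decide) (by decide),
      h1 6 (by decide) (by decide), h1 7 (by decide) (by decide)] at h4
    have hs := fam_sum hinv hu
    rw [Fin.sum_univ_eight] at hs
    have h5 : u 2 + u 3 + u 4 + u 5 + u 6 + u 7 = u 0 + u 1 := by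
      apply eq_of_add2 h2
      rw [← hs]
      abel
    have h6 : 0 + 0 + (a • u 0 + k • (u 1 + u 2)) + (a • u 0 + k • (u 1 + u 3)) + (a • u 0 + k • (u 1 + u 4)) +
        (a • u 0 + k • (u 1 + u 5)) + (a • u 0 + k • (u 1 + u 6)) + (a • u 0 + k • (u 1 + u 7)) =
        (3 : F) • (a • u 0 + a • u 0) + (3 : F) • (k • u 1 + k • u 1) +
        k • (u 2 + u 3 + u 4 + u 5 + u 6 + u 7) := by module
    rw [h6, h5, add_self2 h2, add_self2 h2] at h4
    simp only [smul_zero, zero_add] at h4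
    exact (smul_eq_zero.1 h4).resolve_right hne
  have ha0 : a = 0 := by
    have h5 := map_sum (crB F (w 0 1)) (w 2) Finset.univ
    rw [hstar 2, map_zero] at h5
    have h6 : ∑ j, cr (w 0 1) (w 2 j) = 0 := h5.symm
    have h7 : ∀ j : Fin 8, j ≠ 0 → j ≠ 1 → j ≠ 2 → cr (w 0 1) (w 2 j) = 0 := by
      intro j hj0 hj1 hj2
      obtain ⟨g, g0, g1, g2, g3⟩ := move4 (n := 8) (by norm_num) (a := 0) (b := 1) (c := 2) (d := 3) (a' := 0)
        (b' := 1) (c' := 2) (d' := j) (by decide) (by decide) (by decide) (by decide) (by decide) (by decide)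
        (by decide) (by decide) (Ne.symm hj0) (by decide) (Ne.symm hj1) (Ne.symm hj2)
      have h8 := congrArg (σ g) hB
      rw [act_cr hP hw, g0, g1, g2, g3, map_zero] at h8
      exact h8
    have h8 : cr (w 0 1) (w 2 1) = a • u 1 := by
      obtain ⟨g, g0, g1, g2⟩ := move3 (n := 8) (by norm_num) (a := 0) (b := 1) (c := 2) (a' := 1) (b' := 0) (c' := 2)
        (by decide) (by decide) (by decide) (by decide) (by decide) (by decide)
      have h9 := congrArg (σ g) hk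
      rw [act_cr hP hw, map_add, map_smul, map_smul, map_add, hu, hu, hu, g0, g1, g2, hk0, zero_smul, add_zero,
        D.comm 1 0, D.comm 1 2] at h9
      exact h9
    rw [hk0, zero_smul, add_zero] at hk
    rw [Fin.sum_univ_eight, D.comm 2 0, hk, h8, D.diag h2, cr_zero_right, h7 3 (by decide) (by decide) (by decide),
      h7 4 (by decide) (by decide) (by decide), h7 5 (by decide) (by decide) (by decide),
      h7 6 (by decide) (by decide) (by decide), h7 7 (by decide) (by decide) (by decide)] at h6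
    simp only [add_zero] at h6
    rw [← smul_add] at h6
    exact (smul_eq_zero.1 h6).resolve_right hne
  rw [hk, hk0, ha0, zero_smul, zero_smul, add_zero]

theorem caseB (h2 : (2 : F) = 0) (hP : PD σ σ') (hinv : σ.invariants = ⊥)
    (hu : Fam σ u) (h0 : u 0 ≠ 0) (hw : Fam2 σ' w) (hstar : ∀ i, ∑ j, w i j = 0) (D : Dat u w b)
    (hZ : Z w 0 1 2 3 ≠ 0) : False := by
  have b1 := caseB1 h2 hP hinv hu h0 hw hstar D hZ
  have b2 := caseB2 h2 hP hinv hu h0 hw hstar D hZ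
  have b3 := caseB3 h2 hP hinv hu h0 hw hstar D hZ
  have c1 : ∀ i j, sh (w i j) = 0 := by
    intro i j
    by_cases hij : i = j
    · rw [hij, D.diag h2, sh_zero]
    obtain ⟨g, g0, g1⟩ := move2 (n := 8) (by norm_num) (a := 0) (b := 1) (by decide) hij
    rw [← g0, ← g1, ← act_sh hP hw, b1, map_zero]
  have c3 : ∀ i j k, cr (w i j) (w i k) = 0 := by
    intro i j k
    by_cases hij : i = j
    · rw [hij, D.diag h2, cr_zero_left]
    by_cases hik : i = k
    · rw [hik, D.diag h2, cr_zero_right]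
    by_cases hjk : j = k
    · rw [hjk, cr_self2 h2]
    obtain ⟨g, g0, g1, g2⟩ := move3 (n := 8) (by norm_num) (a := 0) (b := 1) (c := 2)
      (by decide) (by decide) (by decide) hij hik hjk
    rw [← g0, ← g1, ← g2, ← act_cr hP hw, b3, map_zero]
  have c2 : ∀ i j k l, cr (w i j) (w k l) = 0 := by
    intro i j k l
    by_cases hij : i = j
    · rw [hij, D.diag h2, cr_zero_left]
    by_cases hkl : k = l
    · rw [hkl, D.diag h2, cr_zero_right]
    by_cases hik : i = k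
    · rw [hik, c3]
    by_cases hil : i = l
    · rw [hil, D.comm k l, c3]
    by_cases hjk : j = k
    · rw [hjk, D.comm i k, c3]
    by_cases hjl : j = l
    · rw [hjl, D.comm i l, D.comm k l, c3]
    obtain ⟨g, g0, g1, g2, g3⟩ := move4 (n := 8) (by norm_num) (a := 0) (b := 1) (c := 2) (d := 3) (by decide)
      (by decide) (by decide) (by decide) (by decide) (by decide) hij hik hil hjk hjl hkl
    rw [← g0, ← g1, ← g2, ← g3, ← act_cr hP hw, b2, map_zero]
  have hli := Cfsg.Agent.H905.E6T.indep h2 (by norm_num) good8 hw (z0 := 0) (z1 := 1) (z2 := 2) (z3 := 3) rfl rfl rfl rfl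
    hZ
  have h1 := finrank_span_eq_card hli
  rw [card_BP8] at h1
  have h3 := ts_le (ts_span (f := fun p : {p : Fin 8 × Fin 8 // BP p} => w p.1.1 p.1.2) (fun p => c1 _ _)
    (fun p q => c2 _ _ _ _))
  omega

/-! ### all triangles zero -/

/-- the sum over a triangle -/
def tri (w : Fin 8 → Fin 8 → I27 → F) (a b c : Fin 8) : I27 → F := w a b + (w a c + w b c)

theorem tri_zero (h2 : (2 : F) = 0) (hinv' : σ'.invariants = ⊥) (hw : Fam2 σ' w) (hZ : Z w 0 1 2 3 = 0)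
    (a b c : Fin 8) : tri w a b c = 0 := by
  have s12 : ∀ a b c, tri w a b c = tri w b a c := fun a b c => by
    unfold tri; rw [hw.comm a b, add_comm (w a c)]
  have s23 : ∀ a b c, tri w a b c = tri w a c b := fun a b c => by
    unfold tri; rw [hw.comm c b]; abel
  have hP1 : ∀ {a b c d : Fin 8}, a ≠ b → c ≠ a → c ≠ b → d ≠ a → d ≠ b → tri w a b c = tri w a b d := by
    intro a b c d h1 h3 h4 h5 h6
    by_cases hcd : c = d
    · rw [hcd]
    have h7 := Z_zero (n := 8) (by norm_num) hw hZ (by decide) (by decide) (by decide) (by decide) (by decide)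
      (by decide) h1 h3.symm h5.symm h4.symm h6.symm hcd
    unfold Z at h7
    rw [add_assoc (w a c + w b c)] at h7
    unfold tri
    rw [eq_of_add2 h2 h7]
  have hQ : ∀ {a b c b' c' : Fin 8}, a ≠ b → a ≠ c → b ≠ c → a ≠ b' → a ≠ c' → b' ≠ c' →
      tri w a b c = tri w a b' c' := by
    intro a b c b' c' h1 h3 h4 h5 h6 h7
    by_cases h8 : c' = b
    · subst h8
      rw [hP1 (d := b') h1 h3.symm h4.symm h5.symm h7, s23]
    · rw [hP1 (d := c') h1 h3.symm h4.symm h6.symm h8, s23, hP1 (d := b') h6 h1.symm (Ne.symm h8) h5.symm h7, s23]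
  have hall : ∀ {a b c : Fin 8}, a ≠ b → a ≠ c → b ≠ c → tri w a b c = tri w 0 1 2 := by
    intro a b c h1 h3 h4
    by_cases ha : a = 0
    · subst ha
      exact hQ h1 h3 h4 (by decide) (by decide) (by decide)
    · obtain ⟨e, he, he0⟩ : ∃ e : Fin 8, e ≠ a ∧ e ≠ 0 := (show ∀ a : Fin 8, ∃ e : Fin 8, e ≠ a ∧ e ≠ 0 by decide) a
      rw [hQ (b' := 0) (c' := e) h1 h3 h4 ha he.symm he0.symm, s12]
      exact hQ (Ne.symm ha) he0.symm he.symm (by decide) (by decide) (by decide)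
  have h0 : tri w 0 1 2 = 0 := by
    apply mem_inv hinv'
    intro g
    have h1 : σ' g (tri w 0 1 2) = tri w ((g : Perm (Fin 8)) 0) ((g : Perm (Fin 8)) 1) ((g : Perm (Fin 8)) 2) := by
      unfold tri
      rw [map_add, map_add, hw.act, hw.act, hw.act]
    rw [h1]
    exact hall ((g : Perm (Fin 8)).injective.ne (by decide)) ((g : Perm (Fin 8)).injective.ne (by decide))
      ((g : Perm (Fin 8)).injective.ne (by decide))
  by_cases hab : a = b
  · rw [hab]; unfold tri; rw [hw.diag, zero_add, add_self2 h2]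
  by_cases hac : a = c
  · rw [hac]; unfold tri; rw [hw.diag, zero_add, hw.comm b c, add_self2 h2]
  by_cases hbc : b = c
  · rw [hbc]; unfold tri; rw [hw.diag, add_zero, add_self2 h2]
  rw [hall hab hac hbc, h0]

/-- the dimension of a span of differences -/
theorem finrank_six (h2 : (2 : F) = 0) {r : Fin 8 → I27 → F} (hr0 : r 0 = 0) (hs : ∑ j, r j = 0)
    (hrel : ∀ C : Fin 8 → F, ∑ j, C j = 0 → ∑ j, C j • r j = 0 → ∀ a b, C a = C b) :
    finrank F (Submodule.span F (Set.range fun p : Fin 8 × Fin 8 => r p.1 + r p.2)) = 6 := by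
  have hli : LinearIndependent F (![r 1, r 2, r 3, r 4, r 5, r 6]) := by
    rw [Fintype.linearIndependent_iff]
    intro c hc
    rw [Fin.sum_univ_six] at hc
    have h1 := hrel ![c 0 + c 1 + c 2 + c 3 + c 4 + c 5, c 0, c 1, c 2, c 3, c 4, c 5, 0] (by
      rw [Fin.sum_univ_eight]
      change c 0 + c 1 + c 2 + c 3 + c 4 + c 5 + c 0 + c 1 + c 2 + c 3 + c 4 + c 5 + 0 = 0
      linear_combination (c 0 + c 1 + c 2 + c 3 + c 4 + c 5) * h2) (by
      rw [Fin.sum_univ_eight, hr0, smul_zero, zero_add, ← hc]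
      change c 0 • r 1 + c 1 • r 2 + c 2 • r 3 + c 3 • r 4 + c 4 • r 5 + c 5 • r 6 + (0 : F) • r 7 =
        c 0 • r 1 + c 1 • r 2 + c 2 • r 3 + c 3 • r 4 + c 4 • r 5 + c 5 • r 6
      rw [zero_smul, add_zero])
    intro i
    fin_cases i
    · exact h1 1 7
    · exact h1 2 7
    · exact h1 3 7
    · exact h1 4 7
    · exact h1 5 7
    · exact h1 6 7
  have h3 := finrank_span_eq_card hli
  rw [Fintype.card_fin] at h3
  have hm : ∀ i, r i ∈ Submodule.span F (Set.range (![r 1, r 2, r 3, r 4, r 5, r 6])) := by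
    have k : ∀ j : Fin 6, (![r 1, r 2, r 3, r 4, r 5, r 6] : Fin 6 → I27 → F) j ∈
        Submodule.span F (Set.range (![r 1, r 2, r 3, r 4, r 5, r 6])) := fun j => Submodule.subset_span ⟨j, rfl⟩
    have h7 : r 7 = r 1 + r 2 + r 3 + r 4 + r 5 + r 6 := by
      apply eq_of_add2 h2
      rw [Fin.sum_univ_eight, hr0] at hs
      rw [← hs]
      abel
    intro i
    fin_cases i
    · change r 0 ∈ _
      rw [hr0]; exact Submodule.zero_mem _
    · exact k 0
    · exact k 1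
    · exact k 2
    · exact k 3
    · exact k 4
    · exact k 5
    · change r 7 ∈ _
      rw [h7]
      exact Submodule.add_mem _ (Submodule.add_mem _ (Submodule.add_mem _ (Submodule.add_mem _ (Submodule.add_mem _
        (k 0) (k 1)) (k 2)) (k 3)) (k 4)) (k 5)
  have h4 : Submodule.span F (Set.range fun p : Fin 8 × Fin 8 => r p.1 + r p.2) =
      Submodule.span F (Set.range (![r 1, r 2, r 3, r 4, r 5, r 6])) := by
    apply le_antisymm
    · rw [Submodule.span_le]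
      rintro _ ⟨p, rfl⟩
      exact Submodule.add_mem _ (hm _) (hm _)
    · rw [Submodule.span_le]
      rintro _ ⟨j, rfl⟩
      have k : ∀ i : Fin 8, r i ∈ Submodule.span F (Set.range fun p : Fin 8 × Fin 8 => r p.1 + r p.2) := by
        intro i
        refine Submodule.subset_span ⟨(i, 0), ?_⟩
        change r i + r 0 = r i
        rw [hr0, add_zero]
      fin_cases j
      · exact k 1
      · exact k 2
      · exact k 3
      · exact k 4
      · exact k 5
      · exact k 6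
  rw [h4, h3]

/-- relations between vectors permuted by `A₈` -/
theorem rel_aux (h2 : (2 : F) = 0) {r : Fin 8 → I27 → F} {C : Fin 8 → F}
    (h : ∀ g : ↥(alternatingGroup (Fin 8)), ∑ j, C j • r ((g : Perm (Fin 8)) j) = 0) :
    (C 0 + C 1) • (r 0 + r 1) = 0 := by
  have k1 := h 1
  have k2 := h g234
  have k3 := h (g234 * g234)
  have k4 := h h0123
  have k5 := h (h0123 * g234)
  have k6 := h (h0123 * (g234 * g234))
  rw [Fin.sum_univ_eight] at k1 k2 k3 k4 k5 k6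
  change C 0 • r 0 + C 1 • r 1 + C 2 • r 2 + C 3 • r 3 + C 4 • r 4 + C 5 • r 5 + C 6 • r 6 + C 7 • r 7 = 0 at k1
  change C 0 • r 0 + C 1 • r 1 + C 2 • r 3 + C 3 • r 4 + C 4 • r 2 + C 5 • r 5 + C 6 • r 6 + C 7 • r 7 = 0 at k2
  change C 0 • r 0 + C 1 • r 1 + C 2 • r 4 + C 3 • r 2 + C 4 • r 3 + C 5 • r 5 + C 6 • r 6 + C 7 • r 7 = 0 at k3
  change C 0 • r 1 + C 1 • r 0 + C 2 • r 3 + C 3 • r 2 + C 4 • r 4 + C 5 • r 5 + C 6 • r 6 + C 7 • r 7 = 0 at k4
  change C 0 • r 1 + C 1 • r 0 + C 2 • r 2 + C 3 • r 4 + C 4 • r 3 + C 5 • r 5 + C 6 • r 6 + C 7 • r 7 = 0 at k5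
  change C 0 • r 1 + C 1 • r 0 + C 2 • r 4 + C 3 • r 3 + C 4 • r 2 + C 5 • r 5 + C 6 • r 6 + C 7 • r 7 = 0 at k6
  have h3 : (C 0 + C 1) • (r 0 + r 1) =
      (C 0 • r 0 + C 1 • r 1 + C 2 • r 2 + C 3 • r 3 + C 4 • r 4 + C 5 • r 5 + C 6 • r 6 + C 7 • r 7) +
      (C 0 • r 0 + C 1 • r 1 + C 2 • r 3 + C 3 • r 4 + C 4 • r 2 + C 5 • r 5 + C 6 • r 6 + C 7 • r 7) +
      (C 0 • r 0 + C 1 • r 1 + C 2 • r 4 + C 3 • r 2 + C 4 • r 3 + C 5 • r 5 + C 6 • r 6 + C 7 • r 7) +
      (C 0 • r 1 + C 1 • r 0 + C 2 • r 3 + C 3 • r 2 + C 4 • r 4 + C 5 • r 5 + C 6 • r 6 + C 7 • r 7) +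
      (C 0 • r 1 + C 1 • r 0 + C 2 • r 2 + C 3 • r 4 + C 4 • r 3 + C 5 • r 5 + C 6 • r 6 + C 7 • r 7) +
      (C 0 • r 1 + C 1 • r 0 + C 2 • r 4 + C 3 • r 3 + C 4 • r 2 + C 5 • r 5 + C 6 • r 6 + C 7 • r 7) -
      (2 : F) • ((C 0 + C 1) • (r 0 + r 1) + (C 2 + C 3 + C 4) • (r 2 + r 3 + r 4) +
        (3 : F) • (C 5 • r 5 + C 6 • r 6 + C 7 • r 7)) := by module
  rw [h3, k1, k2, k3, k4, k5, k6, h2, zero_smul]
  simp

theorem caseA (h2 : (2 : F) = 0) (hP : PD σ σ') (hinv : σ.invariants = ⊥) (hinv' : σ'.invariants = ⊥)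
    (h6 : NoSix σ) (h6' : NoSix σ') (hu : Fam σ u) (h0 : u 0 ≠ 0) (hw : Fam2 σ' w) (D : Dat u w b)
    (hZ : Z w 0 1 2 3 = 0) : False := by
  have ht := tri_zero h2 hinv' hw hZ
  have hus := fam_sum hinv hu
  -- products of differences
  have hcr : ∀ i j k l, cr (u i + u j) (u k + u l) = 0 := by
    intro i j k l
    rw [cr_add_left, cr_add_right, cr_add_right, D.wd, D.wd, D.wd, D.wd]
    have h1 := ht i k l
    have h3 := ht j k l
    unfold tri at h1 h3
    have h4 : w i k + w i l + (w j k + w j l) = (w i k + (w i l + w k l)) + (w j k + (w j l + w k l)) -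
        (w k l + w k l) := by abel
    rw [h4, h1, h3, add_zero, zero_sub, add_self2 h2, neg_zero]
  have hN : ∀ i j, cubicT (u i + u j) = 0 := by
    intro i j
    rw [N_add, D.N, D.N, D.T, D.T']
    linear_combination 2 * b * h2
  have htf : ∀ i j k l, tf (sh (u i + u j)) (u k + u l) = 0 := by
    intro i j k l
    rw [sh_add, D.wd, tf_add_right, tf_add_left, tf_add_left, tf_add_left, tf_add_left, D.T, D.T, D.T, D.T, D.TW, D.TW]
    linear_combination 2 * b * h2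
  have hcs : ∀ i j k l, cr (sh (u i + u j)) (sh (u k + u l)) = 0 := by
    intro i j k l
    have h1 := sh_cr (u i + u j) (u k + u l)
    rw [hcr, sh_zero, zero_add, htf, tf_comm (u i + u j), htf, zero_smul, zero_smul, add_zero] at h1
    exact h1
  have hact : ∀ (g : ↥(alternatingGroup (Fin 8))) (i j : Fin 8), σ g (u i + u j) =
      u ((g : Perm (Fin 8)) i) + u ((g : Perm (Fin 8)) j) := by
    intro g i j
    rw [map_add, hu, hu]
  have hacts : ∀ (g : ↥(alternatingGroup (Fin 8))) (i j : Fin 8), σ' g (sh (u i + u j)) =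
      sh (u ((g : Perm (Fin 8)) i) + u ((g : Perm (Fin 8)) j)) := by
    intro g i j
    rw [← hP.hsh, hact]
  have hsum0 : ∑ j, (u 0 + u j) = 0 := by
    rw [Finset.sum_add_distrib, hus, add_zero, Finset.sum_const, Finset.card_univ, Fintype.card_fin,
      ← Nat.cast_smul_eq_nsmul F]
    have : ((8 : ℕ) : F) = 0 := by
      push_cast
      linear_combination 4 * h2
    rw [this, zero_smul]
  by_cases h01 : sh (u 0 + u 1) = 0
  · have hsh : ∀ i j, sh (u i + u j) = 0 := by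
      intro i j
      by_cases hij : i = j
      · rw [hij, add_self2 h2, sh_zero]
      obtain ⟨g, g0, g1⟩ := move2 (n := 8) (by norm_num) (a := 0) (b := 1) (by decide) hij
      rw [← g0, ← g1, ← hacts, h01, map_zero]
    have h1 : (fun p : Fin 8 × Fin 8 => u p.1 + u p.2) = fun p : Fin 8 × Fin 8 => (u 0 + u p.1) + (u 0 + u p.2) := by
      funext p
      have : (u 0 + u p.1) + (u 0 + u p.2) = (u 0 + u 0) + (u p.1 + u p.2) := by abel
      rw [this, add_self2 h2, zero_add]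
    refine h6 (Submodule.span F (Set.range fun p : Fin 8 × Fin 8 => u p.1 + u p.2))
      (span_stable fun g p => ⟨((g : Perm (Fin 8)) p.1, (g : Perm (Fin 8)) p.2), hact g _ _⟩) ?_
      (ts_span (fun p => hsh _ _) (fun p q => hcr _ _ _ _))
    rw [h1]
    refine finrank_six h2 (r := fun j => u 0 + u j) (add_self2 h2 _) hsum0 ?_
    intro C hC1 hC2 a b
    apply indep8 h2 hinv hu h0
    rw [← hC2]
    simp_rw [smul_add]
    rw [Finset.sum_add_distrib, ← Finset.sum_smul, hC1, zero_smul, zero_add]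
  · have hadd : ∀ i j, sh (u i + u j) = sh (u 0 + u i) + sh (u 0 + u j) := by
      intro i j
      have h1 : u i + u j = (u 0 + u i) + (u 0 + u j) := by
        have : (u 0 + u i) + (u 0 + u j) = (u 0 + u 0) + (u i + u j) := by abel
        rw [this, add_self2 h2, zero_add]
      rw [h1, sh_add, hcr, add_zero]
    have hr0 : sh (u 0 + u 0) = 0 := by rw [add_self2 h2, sh_zero]
    have hsumr : ∑ j, sh (u 0 + u j) = 0 := by
      have h1 : ∀ s : Finset (Fin 8), sh (∑ j ∈ s, (u 0 + u j)) = ∑ j ∈ s, sh (u 0 + u j) ∧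
          ∀ k, cr (∑ j ∈ s, (u 0 + u j)) (u 0 + u k) = 0 := by
        intro s
        induction s using Finset.induction_on with
        | empty => exact ⟨by rw [Finset.sum_empty, Finset.sum_empty, sh_zero], fun k => by
            rw [Finset.sum_empty, cr_zero_left]⟩
        | insert a s ha ih =>
          refine ⟨?_, fun k => ?_⟩
          · rw [Finset.sum_insert ha, Finset.sum_insert ha, sh_add, ih.1, cr_comm, ih.2, add_zero]
          · rw [Finset.sum_insert ha, cr_add_left, ih.2, hcr, add_zero]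
      rw [← (h1 Finset.univ).1, hsum0, sh_zero]
    have h1 : (fun p : Fin 8 × Fin 8 => sh (u p.1 + u p.2)) = fun p : Fin 8 × Fin 8 => sh (u 0 + u p.1) +
        sh (u 0 + u p.2) := funext fun p => hadd _ _
    refine h6' (Submodule.span F (Set.range fun p : Fin 8 × Fin 8 => sh (u p.1 + u p.2)))
      (span_stable fun g p => ⟨((g : Perm (Fin 8)) p.1, (g : Perm (Fin 8)) p.2), hacts g _ _⟩) ?_
      (ts_span (fun p => by rw [sh_sh, hN, zero_smul]) (fun p q => hcs _ _ _ _))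
    rw [h1]
    refine finrank_six h2 (r := fun j => sh (u 0 + u j)) hr0 hsumr ?_
    intro C hC1 hC2 a b
    -- the relation for all group elements
    have h3 : ∀ g : ↥(alternatingGroup (Fin 8)), ∑ j, C j • sh (u 0 + u ((g : Perm (Fin 8)) j)) = 0 := by
      intro g
      have h4 := congrArg (σ' g) hC2
      rw [map_zero, map_sum] at h4
      rw [← h4]
      have h5 : ∀ j, σ' g (C j • sh (u 0 + u j)) = C j • sh (u 0 + u ((g : Perm (Fin 8)) 0)) +
          C j • sh (u 0 + u ((g : Perm (Fin 8)) j)) := by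
        intro j
        rw [map_smul, hacts, hadd, smul_add]
      rw [Finset.sum_congr rfl fun j _ => h5 j, Finset.sum_add_distrib, ← Finset.sum_smul, hC1, zero_smul, zero_add]
    by_cases hab : a = b
    · rw [hab]
    obtain ⟨g, g0, g1⟩ := move2 (n := 8) (by norm_num) (a := 0) (b := 1) (by decide) hab
    have h4 := rel_aux h2 (r := fun j => sh (u 0 + u j)) (C := fun j => C ((g : Perm (Fin 8)) j)) (by
      intro k
      have h5 := h3 (k * g⁻¹)
      rw [← Equiv.sum_comp (g : Perm (Fin 8)) (fun j => C j • sh (u 0 + u (((k * g⁻¹ : ↥(alternatingGroup (Fin 8))) :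
        Perm (Fin 8)) j)))] at h5
      simpa using h5)
    simp only [g0, g1, hr0, zero_add] at h4
    have h5 := (smul_eq_zero.1 h4).resolve_right h01
    have h7 := z2 h2 (C b)
    linear_combination h5 - h7

/-- **`A₈` in characteristic 2, case (I).** -/
theorem eight_one (h2 : (2 : F) = 0) (hP : PD σ σ') (hinv : σ.invariants = ⊥) (hinv' : σ'.invariants = ⊥)
    (h6 : NoSix σ) (h6' : NoSix σ') {u : Fin 8 → I27 → F} (hu : Fam σ u) (h0 : u 0 ≠ 0) : False := by
  obtain ⟨w, b, D, hw, hstar⟩ := exists_dat h2 hP hinv hinv' hu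
  by_cases hZ : Z w 0 1 2 3 = 0
  · exact caseA h2 hP hinv hinv' h6 h6' hu h0 hw D hZ
  · exact caseB h2 hP hinv hu h0 hw hstar D hZ

end eight

end Cfsg.Agent.H288.E6
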